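import Cfsg.Agent.Comp.M22y.Data

set_option autoImplicit false
set_option maxRecDepth 100000
set_option Elab.async false

namespace Cfsg.Agent.Comp.M22y

theorem s0 : allR J.slpAt 0 20 = true := by decide +kernel
theorem l4 : J.lvlAt L4 [] = true := by decide +kernel
theorem q4_0 : allR (schChk J.E L4 [] J.AB h4 (nat_lit 1) (nat_lit 1)) 0 3 = true := by decide +kernel
theorem l3 : J.lvlAt L3 [L4] = true := by decide +kernel
theorem q3_0 : allR (schChk J.E L3 [L4] J.AB h3 (nat_lit 8) (nat_lit 255)) 0 16 = true := by decide +kernel
theorem l2 : J.lvlAt L2 [L3, L4] = true := by decide +kernel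
theorem q2_0 : allR (schChk J.E L2 [L3, L4] J.AB h2 (nat_lit 16) (nat_lit 65535)) 0 20 = true := by decide +kernel
theorem l1 : J.lvlAt L1 [L2, L3, L4] = true := by decide +kernel
theorem q1_0 : allR (schChk J.E L1 [L2, L3, L4] J.AB h1 (nat_lit 24) (nat_lit 16777215)) 0 21 = true := by decide +kernel
theorem l0 : J.lvlAt L0 [L1, L2, L3, L4] = true := by decide +kernel
theorem q0_0 : allR (schChk J.E L0 [L1, L2, L3, L4] J.AB h0 (nat_lit 32) (nat_lit 4294967295)) 0 22 = true := by decide +kernel
theorem rp : J.repsAt (nat_lit 12) xs = true := by decide +kernel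
noncomputable def t66 : ℕ := nat_lit 0x28b01840500988405050880928a83060500728407818b009289880a8880970686068180170a830301001283858708009284050708809289050309009289878288809706020301001282050902009284038588809286038903007886098184809288028a0880928483010080188608098880928983878a80728608860680970908868880928a08098a8072868186040097048a070700770a848885809704038b088092820b03888092860386880077048502030098840a818880988905810080170207098780970b0a810080170407068a8092840a010880970a0a090700170786040380928b0208088097020706090077058a8a8a0092830689088097098487060092838704088092850801008017080687888098840a838800788b068309809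
theorem n66 : fullChk J.E [L0, L1, L2, L3, L4] R [nat_lit 16, nat_lit 24, nat_lit 112] t66 (nat_lit 48) (nat_lit 281474976710655) = true := by decide +kernel
noncomputable def t65 : ℕ := nat_lit 0x886060507802705868687001285018a88801
theorem n65 : fullChk J.E [L0, L1, L2, L3, L4] R [nat_lit 16, nat_lit 24, nat_lit 32, nat_lit 104] t65 (nat_lit 48) (nat_lit 281474976710655) = true := by decide +kernel
noncomputable def t64 : ℕ := nat_lit 0x70a8b0b050062860507030032898b0607804
theorem n64 : fullChk J.E [L0, L1, L2, L3, L4] R [nat_lit 16, nat_lit 24, nat_lit 32, nat_lit 88] t64 (nat_lit 48) (nat_lit 281474976710655) = true := by decide +kernel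
noncomputable def t63 : ℕ := nat_lit 0x28b050785806282038204805882070705009
theorem n63 : fullChk J.E [L0, L1, L2, L3, L4] R [nat_lit 16, nat_lit 24, nat_lit 32, nat_lit 56] t63 (nat_lit 48) (nat_lit 281474976710655) = true := by decide +kernel
noncomputable def t62 : ℕ := nat_lit 0x8848988828057078a8383006884018383009
theorem n62 : fullChk J.E [L0, L1, L2, L3, L4] R [nat_lit 16, nat_lit 24, nat_lit 32, nat_lit 144] t62 (nat_lit 48) (nat_lit 281474976710655) = true := by decide +kernel
noncomputable def t61 : ℕ := nat_lit 0x70803810080570487888780388981860a804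
theorem n61 : fullChk J.E [L0, L1, L2, L3, L4] R [nat_lit 16, nat_lit 24, nat_lit 32, nat_lit 40] t61 (nat_lit 48) (nat_lit 281474976710655) = true := by decide +kernel
noncomputable def t60 : ℕ := nat_lit 0x2838a810280870206088a808882068987008
theorem n60 : fullChk J.E [L0, L1, L2, L3, L4] R [nat_lit 16, nat_lit 24, nat_lit 32, nat_lit 8] t60 (nat_lit 48) (nat_lit 281474976710655) = true := by decide +kernel
noncomputable def t59 : ℕ := nat_lit 0x2100112100111111210011002100000021000000000000
theorem n59 : redChk J.E [L0, L1, L2, L3, L4] J.AV [nat_lit 16, nat_lit 24, nat_lit 32] [nat_lit 584654000136] t59 [nat_lit 8, nat_lit 40, nat_lit 144, nat_lit 56, nat_lit 88, nat_lit 104] = true := by decide +kernel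
noncomputable def t58 : ℕ := nat_lit 0x7080801008027048b050280270901888a00a
theorem n58 : fullChk J.E [L0, L1, L2, L3, L4] R [nat_lit 16, nat_lit 24, nat_lit 8, nat_lit 104] t58 (nat_lit 48) (nat_lit 281474976710655) = true := by decide +kernel
noncomputable def t57 : ℕ := nat_lit 0x2838b050700228602038a00a889838201802
theorem n57 : fullChk J.E [L0, L1, L2, L3, L4] R [nat_lit 16, nat_lit 24, nat_lit 8, nat_lit 152] t57 (nat_lit 48) (nat_lit 281474976710655) = true := by decide +kernel
noncomputable def t56 : ℕ := nat_lit 0x7090a8b0500a705078100802703040507002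
theorem n56 : fullChk J.E [L0, L1, L2, L3, L4] R [nat_lit 16, nat_lit 24, nat_lit 8, nat_lit 64] t56 (nat_lit 48) (nat_lit 281474976710655) = true := by decide +kernel
noncomputable def t55 : ℕ := nat_lit 0x88604010080228a0b050700a88a84030480a
theorem n55 : fullChk J.E [L0, L1, L2, L3, L4] R [nat_lit 16, nat_lit 24, nat_lit 8, nat_lit 80] t55 (nat_lit 48) (nat_lit 281474976710655) = true := by decide +kernel
noncomputable def t54 : ℕ := nat_lit 0x2848502088022878a030780a88a85010080a
theorem n54 : fullChk J.E [L0, L1, L2, L3, L4] R [nat_lit 16, nat_lit 24, nat_lit 8, nat_lit 48] t54 (nat_lit 48) (nat_lit 281474976710655) = true := by decide +kernel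
noncomputable def t53 : ℕ := nat_lit 0x28586018780a70a84810080a88604850700a
theorem n53 : fullChk J.E [L0, L1, L2, L3, L4] R [nat_lit 16, nat_lit 24, nat_lit 8, nat_lit 32] t53 (nat_lit 48) (nat_lit 281474976710655) = true := by decide +kernel
noncomputable def t52 : ℕ := nat_lit 0x2121210011001121000021110011001100000000000000
theorem n52 : redChk J.E [L0, L1, L2, L3, L4] J.AV [nat_lit 16, nat_lit 24, nat_lit 8] [nat_lit 584654000136] t52 [nat_lit 32, nat_lit 48, nat_lit 80, nat_lit 64, nat_lit 152, nat_lit 104] = true := by decide +kernel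
noncomputable def t51 : ℕ := nat_lit 0x3131333211221231002231212232233323120000000000
theorem n51 : redChk J.E [L0, L1, L2, L3, L4] J.AV [nat_lit 16, nat_lit 24] [nat_lit 483453833224, nat_lit 586264612872, nat_lit 586533048328] t51 [nat_lit 8, nat_lit 32, nat_lit 112] = true := by decide +kernel
noncomputable def t50 : ℕ := nat_lit 0x28405810400788b03010580788803850980770203848880170981810a00770586868400828407010a80b2890a0a87001884818207001287878a0200770606850280128687838400888b01820280728608810300728401898900b282098a8280188904850700788a03838400870a07020700188808860200828381878800770a860207001702038487807885058488801282018703808283830a87001287878782007703018a06007708068805008289860488801889860502801285068a8900770a030b018012860409838088850b050a00788589050280188485030880b8850604878072898a07880072820a0b0b008886070a8b007286068208801283818a0400728a81880180728203810a8078868502088012868a010080b702070a87001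
theorem n50 : fullChk J.E [L0, L1, L2, L3, L4] R [nat_lit 16, nat_lit 8, nat_lit 136] t50 (nat_lit 48) (nat_lit 281474976710655) = true := by decide +kernel
noncomputable def t49 : ℕ := nat_lit 0x28a03810a001282018503001705098109002
theorem n49 : fullChk J.E [L0, L1, L2, L3, L4] R [nat_lit 16, nat_lit 8, nat_lit 32, nat_lit 88] t49 (nat_lit 48) (nat_lit 281474976710655) = true := by decide +kernel
noncomputable def t48 : ℕ := nat_lit 0x282090104801287818282802703840105801
theorem n48 : fullChk J.E [L0, L1, L2, L3, L4] R [nat_lit 16, nat_lit 8, nat_lit 32, nat_lit 168] t48 (nat_lit 48) (nat_lit 281474976710655) = true := by decide +kernel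
noncomputable def t47 : ℕ := nat_lit 0x28604810b008705838382008706090702002
theorem n47 : fullChk J.E [L0, L1, L2, L3, L4] R [nat_lit 16, nat_lit 8, nat_lit 32, nat_lit 80] t47 (nat_lit 48) (nat_lit 281474976710655) = true := by decide +kernel
noncomputable def t46 : ℕ := nat_lit 0x28203080b00828a85038880828382038b002
theorem n46 : fullChk J.E [L0, L1, L2, L3, L4] R [nat_lit 16, nat_lit 8, nat_lit 32, nat_lit 48] t46 (nat_lit 48) (nat_lit 281474976710655) = true := by decide +kernel
noncomputable def t45 : ℕ := nat_lit 0x28688010800728586038a00228608818a802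
theorem n45 : fullChk J.E [L0, L1, L2, L3, L4] R [nat_lit 16, nat_lit 8, nat_lit 32, nat_lit 136] t45 (nat_lit 48) (nat_lit 281474976710655) = true := by decide +kernel
noncomputable def t44 : ℕ := nat_lit 0x28503070500288405878700b706888603802
theorem n44 : fullChk J.E [L0, L1, L2, L3, L4] R [nat_lit 16, nat_lit 8, nat_lit 32, nat_lit 24] t44 (nat_lit 48) (nat_lit 281474976710655) = true := by decide +kernel
noncomputable def t43 : ℕ := nat_lit 0x211121000011210011000011212100110000000000
theorem n43 : redChk J.E [L0, L1, L2, L3, L4] J.AV [nat_lit 16, nat_lit 8, nat_lit 32] [nat_lit 481574785032] t43 [nat_lit 24, nat_lit 136, nat_lit 48, nat_lit 80, nat_lit 168, nat_lit 88] = true := by decide +kernel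
noncomputable def t42 : ℕ := nat_lit 0x70a09050900728605078100b282078a06807
theorem n42 : fullChk J.E [L0, L1, L2, L3, L4] R [nat_lit 16, nat_lit 8, nat_lit 24, nat_lit 128] t42 (nat_lit 48) (nat_lit 281474976710655) = true := by decide +kernel
noncomputable def t41 : ℕ := nat_lit 0x708068382008288060a020072860a0883008
theorem n41 : fullChk J.E [L0, L1, L2, L3, L4] R [nat_lit 16, nat_lit 8, nat_lit 24, nat_lit 88] t41 (nat_lit 48) (nat_lit 281474976710655) = true := by decide +kernel
noncomputable def t40 : ℕ := nat_lit 0x88503010a80788b0a03820087048a8906008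
theorem n40 : fullChk J.E [L0, L1, L2, L3, L4] R [nat_lit 16, nat_lit 8, nat_lit 24, nat_lit 72] t40 (nat_lit 48) (nat_lit 281474976710655) = true := by decide +kernel
noncomputable def t39 : ℕ := nat_lit 0x88208850780b2850802048087048a080b008
theorem n39 : fullChk J.E [L0, L1, L2, L3, L4] R [nat_lit 16, nat_lit 8, nat_lit 24, nat_lit 56] t39 (nat_lit 48) (nat_lit 281474976710655) = true := by decide +kernel
noncomputable def t38 : ℕ := nat_lit 0x28b03818780828207830480828608830a80b
theorem n38 : fullChk J.E [L0, L1, L2, L3, L4] R [nat_lit 16, nat_lit 8, nat_lit 24, nat_lit 48] t38 (nat_lit 48) (nat_lit 281474976710655) = true := by decide +kernel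
noncomputable def t37 : ℕ := nat_lit 0x70b06878100b284040a0980b88407810080b
theorem n37 : fullChk J.E [L0, L1, L2, L3, L4] R [nat_lit 16, nat_lit 8, nat_lit 24, nat_lit 32] t37 (nat_lit 48) (nat_lit 281474976710655) = true := by decide +kernel
noncomputable def t36 : ℕ := nat_lit 0x2121211121000011001121001100110000000000000000
theorem n36 : redChk J.E [L0, L1, L2, L3, L4] J.AV [nat_lit 16, nat_lit 8, nat_lit 24] [nat_lit 481574785032] t36 [nat_lit 32, nat_lit 48, nat_lit 56, nat_lit 72, nat_lit 88, nat_lit 128] = true := by decide +kernel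
noncomputable def t35 : ℕ := nat_lit 0x3241334221003133133222213333221211110000000000
theorem n35 : redChk J.E [L0, L1, L2, L3, L4] J.AV [nat_lit 16, nat_lit 8] [nat_lit 584654000136, nat_lit 585056653320, nat_lit 172605575176] t35 [nat_lit 24, nat_lit 32, nat_lit 136] = true := by decide +kernel
noncomputable def t34 : ℕ := nat_lit 0x3252414112321121314142314222312221314100000000
theorem n34 : redChk J.E [L0, L1, L2, L3, L4] J.AV [nat_lit 16] [nat_lit 174358269960, nat_lit 584660815880] t34 [nat_lit 8, nat_lit 24] = true := by decide +kernel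
noncomputable def t33 : ℕ := nat_lit 0x28604810980970506068080970b03860300a28987878380970206040080928389060900a288050b0600a705838a0a00928a09080080970305048200928a8702008092898a050980a28b08010780928409038080988205078a00a28b01848500928204848080928684810a80a287898500809286068a0500a7020984830097048b078080928b08010200a2848785040092880a050680a88986070b009289868980809705038b0080928a81878480a7038184858097040a030080988386848380a70805850a809288070a0600a708040106009709898a80809285098a8900a883068106809284820a0080928509010800a2820605048097050a090080988a06070900970682060080970a07810300a7050a058080928b0b058500a705850508009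
theorem n33 : fullChk J.E [L0, L1, L2, L3, L4] R [nat_lit 8, nat_lit 24, nat_lit 40] t33 (nat_lit 48) (nat_lit 281474976710655) = true := by decide +kernel
noncomputable def t32 : ℕ := nat_lit 0x287890b0880528a86838a805286048209005
theorem n32 : fullChk J.E [L0, L1, L2, L3, L4] R [nat_lit 8, nat_lit 24, nat_lit 32, nat_lit 128] t32 (nat_lit 48) (nat_lit 281474976710655) = true := by decide +kernel
noncomputable def t31 : ℕ := nat_lit 0x7080185020077060a850a80970b088400809
theorem n31 : fullChk J.E [L0, L1, L2, L3, L4] R [nat_lit 8, nat_lit 24, nat_lit 32, nat_lit 72] t31 (nat_lit 48) (nat_lit 281474976710655) = true := by decide +kernel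
noncomputable def t30 : ℕ := nat_lit 0x884078600809887818384008889868783809
theorem n30 : fullChk J.E [L0, L1, L2, L3, L4] R [nat_lit 8, nat_lit 24, nat_lit 32, nat_lit 80] t30 (nat_lit 48) (nat_lit 281474976710655) = true := by decide +kernel
noncomputable def t29 : ℕ := nat_lit 0x88b0a870900988b07878080928b01850b008
theorem n29 : fullChk J.E [L0, L1, L2, L3, L4] R [nat_lit 8, nat_lit 24, nat_lit 32, nat_lit 48] t29 (nat_lit 48) (nat_lit 281474976710655) = true := by decide +kernel
noncomputable def t28 : ℕ := nat_lit 0x282028583006283070803806706860a0b006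
theorem n28 : fullChk J.E [L0, L1, L2, L3, L4] R [nat_lit 8, nat_lit 24, nat_lit 32, nat_lit 40] t28 (nat_lit 48) (nat_lit 281474976710655) = true := by decide +kernel
noncomputable def t27 : ℕ := nat_lit 0x28a89890780a8868a068480a88484030100a
theorem n27 : fullChk J.E [L0, L1, L2, L3, L4] R [nat_lit 8, nat_lit 24, nat_lit 32, nat_lit 16] t27 (nat_lit 48) (nat_lit 281474976710655) = true := by decide +kernel
noncomputable def t26 : ℕ := nat_lit 0x1111000011110021212121000000211100000000000000
theorem n26 : redChk J.E [L0, L1, L2, L3, L4] J.AV [nat_lit 8, nat_lit 24, nat_lit 32] [nat_lit 584654000136] t26 [nat_lit 16, nat_lit 40, nat_lit 48, nat_lit 80, nat_lit 72, nat_lit 128] = true := by decide +kernel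
noncomputable def t25 : ℕ := nat_lit 0x88409838a008289890886008288090983807
theorem n25 : fullChk J.E [L0, L1, L2, L3, L4] R [nat_lit 8, nat_lit 24, nat_lit 16, nat_lit 128] t25 (nat_lit 48) (nat_lit 281474976710655) = true := by decide +kernel
noncomputable def t24 : ℕ := nat_lit 0x28481838380728209868380870404038a008
theorem n24 : fullChk J.E [L0, L1, L2, L3, L4] R [nat_lit 8, nat_lit 24, nat_lit 16, nat_lit 88] t24 (nat_lit 48) (nat_lit 281474976710655) = true := by decide +kernel
noncomputable def t23 : ℕ := nat_lit 0x286878b0a00770402838680788806050700b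
theorem n23 : fullChk J.E [L0, L1, L2, L3, L4] R [nat_lit 8, nat_lit 24, nat_lit 16, nat_lit 64] t23 (nat_lit 48) (nat_lit 281474976710655) = true := by decide +kernel
noncomputable def t22 : ℕ := nat_lit 0x28a88038500828586858600870b060a8780b
theorem n22 : fullChk J.E [L0, L1, L2, L3, L4] R [nat_lit 8, nat_lit 24, nat_lit 16, nat_lit 56] t22 (nat_lit 48) (nat_lit 281474976710655) = true := by decide +kernel
noncomputable def t21 : ℕ := nat_lit 0x70304090480b70b03818380888201888a008
theorem n21 : fullChk J.E [L0, L1, L2, L3, L4] R [nat_lit 8, nat_lit 24, nat_lit 16, nat_lit 48] t21 (nat_lit 48) (nat_lit 281474976710655) = true := by decide +kernel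
noncomputable def t20 : ℕ := nat_lit 0x70301888300b704038b0a00b282050a8400b
theorem n20 : fullChk J.E [L0, L1, L2, L3, L4] R [nat_lit 8, nat_lit 24, nat_lit 16, nat_lit 32] t20 (nat_lit 48) (nat_lit 281474976710655) = true := by decide +kernel
noncomputable def t19 : ℕ := nat_lit 0x2111211121000011001121001121000000000000000000
theorem n19 : redChk J.E [L0, L1, L2, L3, L4] J.AV [nat_lit 8, nat_lit 24, nat_lit 16] [nat_lit 481574785032] t19 [nat_lit 32, nat_lit 48, nat_lit 56, nat_lit 64, nat_lit 88, nat_lit 128] = true := by decide +kernel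
noncomputable def t18 : ℕ := nat_lit 0x3333223211113322133132132331422121000000000000
theorem n18 : redChk J.E [L0, L1, L2, L3, L4] J.AV [nat_lit 8, nat_lit 24] [nat_lit 173276663816, nat_lit 584654000136, nat_lit 483453833224] t18 [nat_lit 16, nat_lit 32, nat_lit 40] = true := by decide +kernel
noncomputable def t17 : ℕ := nat_lit 0x28b04878a00888786838600a28a06848b00a7060b078400770b09840780a70581898200a28807838a80a287818a0780b28b08060900a70802850600828a83818580a28a88818200a28606810200870503830800a28b02088900a7060981050077080a038800a70405038680a28a8b060b00a70601868500a283878788008286040b0600a28a85060500a28489820880b28a820a0900a28903010480728789060980a28a87080500a7048a080600a284058a0380728607020a80a88607028480a70809810500b28a87038480a2880b050600888207080780a8898a830480a28409848380828305098900a28801888b00a8858a810580870b07018900a28403848780870985068400a886060a8200a289038a8580a28a04870980a28502048600b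
theorem n17 : fullChk J.E [L0, L1, L2, L3, L4] R [nat_lit 8, nat_lit 16, nat_lit 112] t17 (nat_lit 48) (nat_lit 281474976710655) = true := by decide +kernel
noncomputable def t16 : ℕ := nat_lit 0x70787838800a28208078100988b050100809
theorem n16 : fullChk J.E [L0, L1, L2, L3, L4] R [nat_lit 8, nat_lit 16, nat_lit 32, nat_lit 152] t16 (nat_lit 48) (nat_lit 281474976710655) = true := by decide +kernel
noncomputable def t15 : ℕ := nat_lit 0x70506010080928787898280a286038781009
theorem n15 : fullChk J.E [L0, L1, L2, L3, L4] R [nat_lit 8, nat_lit 16, nat_lit 32, nat_lit 72] t15 (nat_lit 48) (nat_lit 281474976710655) = true := by decide +kernel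
noncomputable def t14 : ℕ := nat_lit 0x8840b020600a884878781009283860100809
theorem n14 : fullChk J.E [L0, L1, L2, L3, L4] R [nat_lit 8, nat_lit 16, nat_lit 32, nat_lit 96] t14 (nat_lit 48) (nat_lit 281474976710655) = true := by decide +kernel
noncomputable def t13 : ℕ := nat_lit 0x28b06838b00a70607078100928b0a8100809
theorem n13 : fullChk J.E [L0, L1, L2, L3, L4] R [nat_lit 8, nat_lit 16, nat_lit 32, nat_lit 48] t13 (nat_lit 48) (nat_lit 281474976710655) = true := by decide +kernel
noncomputable def t12 : ℕ := nat_lit 0x8820a0782008284048488808285068801807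
theorem n12 : fullChk J.E [L0, L1, L2, L3, L4] R [nat_lit 8, nat_lit 16, nat_lit 32, nat_lit 40] t12 (nat_lit 48) (nat_lit 281474976710655) = true := by decide +kernel
noncomputable def t11 : ℕ := nat_lit 0x2878b088300b70988070800b2858a838500b
theorem n11 : fullChk J.E [L0, L1, L2, L3, L4] R [nat_lit 8, nat_lit 16, nat_lit 32, nat_lit 24] t11 (nat_lit 48) (nat_lit 281474976710655) = true := by decide +kernel
noncomputable def t10 : ℕ := nat_lit 0x11210011110021210000111100212100000000000000
theorem n10 : redChk J.E [L0, L1, L2, L3, L4] J.AV [nat_lit 8, nat_lit 16, nat_lit 32] [nat_lit 584654000136] t10 [nat_lit 24, nat_lit 40, nat_lit 48, nat_lit 96, nat_lit 72, nat_lit 152] = true := by decide +kernel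
noncomputable def t9 : ℕ := nat_lit 0x28a83020480a704818a8a80a7060a850980b
theorem n9 : fullChk J.E [L0, L1, L2, L3, L4] R [nat_lit 8, nat_lit 16, nat_lit 24, nat_lit 128] t9 (nat_lit 48) (nat_lit 281474976710655) = true := by decide +kernel
noncomputable def t8 : ℕ := nat_lit 0x28402040300a70207060a80a28386028980b
theorem n8 : fullChk J.E [L0, L1, L2, L3, L4] R [nat_lit 8, nat_lit 16, nat_lit 24, nat_lit 152] t8 (nat_lit 48) (nat_lit 281474976710655) = true := by decide +kernel
noncomputable def t7 : ℕ := nat_lit 0x28a82868a00a28806898980b28485060300a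
theorem n7 : fullChk J.E [L0, L1, L2, L3, L4] R [nat_lit 8, nat_lit 16, nat_lit 24, nat_lit 64] t7 (nat_lit 48) (nat_lit 281474976710655) = true := by decide +kernel
noncomputable def t6 : ℕ := nat_lit 0x28201840300b88606830200a28b09888600a
theorem n6 : fullChk J.E [L0, L1, L2, L3, L4] R [nat_lit 8, nat_lit 16, nat_lit 24, nat_lit 96] t6 (nat_lit 48) (nat_lit 281474976710655) = true := by decide +kernel
noncomputable def t5 : ℕ := nat_lit 0x70306090380b70407868a00a70b05820800a
theorem n5 : fullChk J.E [L0, L1, L2, L3, L4] R [nat_lit 8, nat_lit 16, nat_lit 24, nat_lit 48] t5 (nat_lit 48) (nat_lit 281474976710655) = true := by decide +kernel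
noncomputable def t4 : ℕ := nat_lit 0x28686038500a70209058600a28484088400c
theorem n4 : fullChk J.E [L0, L1, L2, L3, L4] R [nat_lit 8, nat_lit 16, nat_lit 24, nat_lit 32] t4 (nat_lit 48) (nat_lit 281474976710655) = true := by decide +kernel
noncomputable def t3 : ℕ := nat_lit 0x2111110021000011001100212121001100000000000000
theorem n3 : redChk J.E [L0, L1, L2, L3, L4] J.AV [nat_lit 8, nat_lit 16, nat_lit 24] [nat_lit 481574785032] t3 [nat_lit 32, nat_lit 48, nat_lit 96, nat_lit 64, nat_lit 152, nat_lit 128] = true := by decide +kernel
noncomputable def t2 : ℕ := nat_lit 0x2131323221112122003313313323122211210000000000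
theorem n2 : redChk J.E [L0, L1, L2, L3, L4] J.AV [nat_lit 8, nat_lit 16] [nat_lit 585727741960, nat_lit 585190871048, nat_lit 172605575176] t2 [nat_lit 24, nat_lit 32, nat_lit 112] = true := by decide +kernel
noncomputable def t1 : ℕ := nat_lit 0x3241425251622141216111522232313242421200000000
theorem n1 : redChk J.E [L0, L1, L2, L3, L4] J.AV [nat_lit 8] [nat_lit 481843744776, nat_lit 482653245448] t1 [nat_lit 16, nat_lit 24] = true := by decide +kernel
noncomputable def t0 : ℕ := nat_lit 0x5261224142316142413252425151523141213211000000
theorem n0 : redChk J.E [L0, L1, L2, L3, L4] J.AV [] [nat_lit 586808301576, nat_lit 586134067208] t0 [nat_lit 8, nat_lit 16] = true := by decide +kernel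
theorem sp : specChk J.E [L0, L1, L2, L3, L4] R os [1, 2, 3, 4, 5, 6, 7, 8, 11] = true := by decide +kernel

end Cfsg.Agent.Comp.M22y
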